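import Mathlib
import Cfsg.Agent.Lib.Inv59.ASixteen.Config
import Cfsg.Agent.Lib.Fusion.Thompson
import Cfsg.Agent.Lib.ZStar.Elements

/-!
# The centraliser of a point of the module: transfer
-/

set_option autoImplicit false
set_option linter.unusedSectionVars false
set_option linter.style.haveILetI false

namespace Cfsg.Agent.Lib.Inv59.ASixteen

open Equiv Subgroup

universe u

variable {G : Type u} [Group G]

local notation "A5" => alternatingGroup (Fin 5)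

variable {A N O : Subgroup G} (c : Cfg A N O)

namespace Cfg

/-- The central involution. -/
abbrev c0 : G := c.ι e4

/-- Its centraliser. -/
abbrev X : Subgroup G := centralizer {c.ι e4}

/-- The hyperplane of `A` attached to `e4`. -/
def W : Subgroup G where
  carrier := {x | ∃ f, lam f = 0 ∧ c.ι f = x}
  one_mem' := ⟨0, by simp [lam], c.zero⟩
  mul_mem' := by
    rintro _ _ ⟨f, hf, rfl⟩ ⟨g, hg, rfl⟩
    exact ⟨f + g, by rw [(add_e4 f g).2.1, hf, hg, add_zero], c.ι_add f g⟩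
  inv_mem' := by
    rintro _ ⟨f, hf, rfl⟩
    exact ⟨f, hf, (c.inv f).symm⟩

theorem mem_W {f : V5} : c.ι f ∈ c.W ↔ lam f = 0 := by
  constructor
  · rintro ⟨g, hg, he⟩
    rw [lam_eqv g f ((c.ι_eq g f).1 he)]; exact hg
  · exact fun h => ⟨f, h, rfl⟩

theorem W_le : c.W ≤ A := by rintro _ ⟨f, -, rfl⟩; exact c.ι_mem f

theorem mem_X {x : G} : x ∈ c.X ↔ x * c.c0 = c.c0 * x := mem_centralizer_singleton_iff

theorem A_le_X : A ≤ c.X := fun _ ha => c.mem_X.2 (c.A_comm ha (c.ι_mem e4))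

theorem φ_X (n : ↥N) : (n : G) ∈ c.X ↔ (c.φ n : Perm (Fin 5)) 4 = 4 := by
  rw [c.mem_X, c.fix_iff, fix_four]

theorem φ_comm {n : ↥N} (h : ∀ a ∈ A, (n : G) * a = a * n) : c.φ n = 1 :=
  faithful _ fun f => (c.fix_iff n f).1 (h _ (c.ι_mem f))

theorem φ_O (o : ↥N) (ho : (o : G) ∈ O) : c.φ o = 1 := c.φ_comm fun a ha => c.O_comm _ ho a ha

/-- `W` is strongly closed with respect to the centraliser. -/
theorem closed {g : G} (hg : g ∈ c.X) {x : G} (hx : x ∈ c.W) (h : g * x * g⁻¹ ∈ N) :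
    g * x * g⁻¹ ∈ c.W := by
  obtain ⟨f, hf, rfl⟩ := hx
  have hgc : g * c.ι e4 * g⁻¹ = c.ι e4 := mul_inv_eq_iff_eq_mul.2 (c.mem_X.1 hg)
  rcases (w_char f).1 hf with h0 | h4 | ⟨hn, hn'⟩
  · rw [c.eq_one.2 h0, mul_one, mul_inv_cancel]; exact one_mem _
  · rw [← (c.ι_eq e4 f).2 h4, hgc]; exact c.mem_W.2 basic.2.2.2.2.2.2.2.2.2.1
  · have hf0 := (w_ne f).1 hn'
    have hfe := (w_ne f).2 hn
    obtain ⟨f', he, h4', h0'⟩ := c.conj_in hf0 h
    have h4'' := c.conj_four (g := g) (f := f + e4) (f' := f' + e4) hfe (by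
      rw [c.ι_add, c.ι_add, ← he]
      calc g * (c.ι f * c.ι e4) * g⁻¹ = g * c.ι f * g⁻¹ * (g * c.ι e4 * g⁻¹) := by group
        _ = g * c.ι f * g⁻¹ * c.ι e4 := by rw [hgc])
    rw [he, c.mem_W, w_char]
    exact Or.inr (Or.inr ⟨fun e => hn (h4'.1 e), fun e => hn' (h4''.1 e)⟩)

theorem conj_W {n : G} (hn : n ∈ N) (hnX : n ∈ c.X) {x : G} (hx : x ∈ c.W) : n * x * n⁻¹ ∈ c.W :=
  c.closed hnX hx (N.mul_mem (N.mul_mem hn (c.le (c.W_le hx))) (N.inv_mem hn))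

end Cfg

/-- The data of the transfer in the centraliser of `c0`. -/
structure PointData (c : Cfg A N O) where
  T : Sylow 2 G
  T_le : (T : Subgroup G) ≤ N
  A_le : A ≤ (T : Subgroup G)
  T_X : (T : Subgroup G) ≤ c.X
  T_v : ∀ t : ↥N, (t : G) ∈ (T : Subgroup G) → c.φ t * c.φ t = 1 ∧ (c.φ t : Perm (Fin 5)) 4 = 4
  K : Subgroup G
  K_le : K ≤ c.X
  K_conj : ∀ g ∈ c.X, ∀ k ∈ K, g * k * g⁻¹ ∈ K
  q_not : c.ι q04 ∉ K
  K_or : ∀ g ∈ c.X, g ∈ K ∨ g * c.ι q04 ∈ K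
  W_K : c.W ≤ K
  odd_K : ∀ g ∈ c.X, Odd (orderOf g) → g ∈ K
  lift : ∀ σ : A5, σ * σ = 1 → (σ : Perm (Fin 5)) 4 = 4 → ∃ t : ↥N,
    (t : G) ∈ (T : Subgroup G) ∧ (t : G) ∈ K ∧ c.φ t = σ
  sq : ∀ t ∈ (T : Subgroup G), t ∈ K → t * t = 1 ∨ t * t = c.ι e4
  w : ↥N
  w_K : (w : G) ∈ K
  w_T : ∀ t ∈ (T : Subgroup G), (w : G) * t * (w : G)⁻¹ ∈ (T : Subgroup G)
  w_fix : (c.φ w : Perm (Fin 5)) 4 = 4
  w_three : c.φ w * c.φ w ≠ 1

variable [Finite G]

theorem exists_point_sylow : ∃ T : Sylow 2 G, (T : Subgroup G) ≤ N ∧ A ≤ (T : Subgroup G) ∧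
    (∀ t : ↥N, (t : G) ∈ (T : Subgroup G) → c.φ t * c.φ t = 1 ∧ (c.φ t : Perm (Fin 5)) 4 = 4) ∧
    (∀ σ : A5, σ * σ = 1 → (σ : Perm (Fin 5)) 4 = 4 → ∃ t : ↥N, (t : G) ∈ (T : Subgroup G) ∧ c.φ t = σ) ∧
    ∃ x ∈ (T : Subgroup G), x * x = 1 ∧ x ∉ A := by
  classical
  haveI := Fact.mk Nat.prime_two
  let H : Subgroup A5 := ((c.S0 : Subgroup G).subgroupOf N).map c.φ
  have hH : IsPGroup 2 H := (c.S0.2.comap_of_injective _ N.subtype_injective).map _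
  obtain ⟨i, hi⟩ := IsPGroup.nonempty_fixed_point_of_prime_not_dvd_card hH (Fin 5) (by
    rw [Nat.card_fin]; norm_num)
  obtain ⟨π, hπ⟩ := exists_point i
  obtain ⟨n, rfl⟩ := c.φ_surj π
  refine ⟨(n : G) • c.S0, ?_⟩
  have hT : ∀ t, t ∈ (((n : G) • c.S0 : Sylow 2 G) : Subgroup G) ↔
      ∃ s ∈ (c.S0 : Subgroup G), (n : G) * s * (n : G)⁻¹ = t := by
    intro t
    rw [Sylow.coe_subgroup_smul, mem_pointwise_smul_iff_inv_smul_mem]
    simp only [← map_inv, MulAut.smul_def, MulAut.conj_apply, inv_inv]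
    exact ⟨fun h => ⟨_, h, by group⟩, by rintro ⟨s, hs, rfl⟩; simpa [mul_assoc] using hs⟩
  have hv : ∀ t : ↥N, (t : G) ∈ (((n : G) • c.S0 : Sylow 2 G) : Subgroup G) →
      c.φ t * c.φ t = 1 ∧ (c.φ t : Perm (Fin 5)) 4 = 4 := by
    intro t ht
    obtain ⟨s, hs, he⟩ := (hT t).1 ht
    have he' : t = n * ⟨s, c.S0_le hs⟩ * n⁻¹ := Subtype.ext he.symm
    have hfix : (c.φ t : Perm (Fin 5)) 4 = 4 := by
      have hsi : (c.φ ⟨s, c.S0_le hs⟩ : Perm (Fin 5)) i = i :=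
        hi ⟨c.φ ⟨s, c.S0_le hs⟩, ⟨⟨s, c.S0_le hs⟩, hs, rfl⟩⟩
      rw [he', map_mul, map_mul, map_inv, ← hπ]
      simp only [Subgroup.coe_mul, Subgroup.coe_inv, Perm.mul_apply, Perm.inv_def,
        Equiv.symm_apply_apply, hsi]
    refine ⟨sylow_stab _ ?_ hfix, hfix⟩
    obtain ⟨k, hk⟩ := IsPGroup.iff_orderOf.1 hH ⟨c.φ ⟨s, c.S0_le hs⟩, ⟨⟨s, c.S0_le hs⟩, hs, rfl⟩⟩
    replace hk : orderOf (c.φ ⟨s, c.S0_le hs⟩) = 2 ^ k := (Subgroup.orderOf_coe _).trans hk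
    have hd : orderOf (c.φ t) ∣ 2 ^ k := by
      rw [he', map_mul, map_mul, map_inv, ← hk]
      exact dvd_of_eq (MulEquiv.orderOf_eq (MulAut.conj (c.φ n)) _)
    have h60 : orderOf (c.φ t) ∣ 60 := (show Nat.card A5 = 60 by
      rw [nat_card_alternatingGroup, Nat.card_fin]; decide) ▸ orderOf_dvd_natCard _
    obtain ⟨j, -, hj⟩ := (Nat.dvd_prime_pow Nat.prime_two).1 hd
    rw [hj] at h60
    have hj2 : j ≤ 2 := by
      by_contra hlt
      have : 2 ^ 3 ∣ 60 := (pow_dvd_pow 2 (by omega)).trans h60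
      norm_num at this
    refine orderOf_dvd_iff_pow_eq_one.1 ?_
    rw [hj, show (4 : ℕ) = 2 ^ 2 by norm_num]
    exact pow_dvd_pow 2 hj2
  have hTN : (((n : G) • c.S0 : Sylow 2 G) : Subgroup G) ≤ N := fun t ht => by
    obtain ⟨s, hs, rfl⟩ := (hT t).1 ht
    exact N.mul_mem (N.mul_mem n.2 (c.S0_le hs)) (N.inv_mem n.2)
  refine ⟨hTN, fun a ha => (hT a).2 ⟨(n : G)⁻¹ * a * n, c.A_le ?_, by group⟩, hv, fun σ hσ hσ4 => ?_, ?_⟩
  · obtain ⟨f, rfl⟩ := c.ι_surj a ha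
    have := c.act n⁻¹ f
    simp only [Subgroup.coe_inv, inv_inv] at this
    rw [this]
    exact c.ι_mem _
  · let T' : Sylow 2 ↥N := ((n : G) • c.S0).subtype hTN
    let U : Sylow 2 A5 := T'.mapSurjective c.φ_surj
    have hcard : Nat.card (U : Subgroup A5) = 4 := by
      obtain ⟨k, hk⟩ := IsPGroup.iff_card.1 U.2
      have hm := card_mul_index (U : Subgroup A5)
      rw [hk, show Nat.card A5 = 60 by rw [nat_card_alternatingGroup, Nat.card_fin]; decide] at hm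
      have hodd := U.not_dvd_index
      have hk2 : k ≤ 2 := by
        by_contra h
        have : 2 ^ 3 ∣ 60 := hm ▸ ((pow_dvd_pow 2 (show 3 ≤ k by omega)).trans (dvd_mul_right _ _))
        norm_num at this
      rw [hk]
      interval_cases k <;> omega
    have hmem : ∀ u : A5, u ∈ (U : Subgroup A5) →
        ∃ t : ↥N, (t : G) ∈ (((n : G) • c.S0 : Sylow 2 G) : Subgroup G) ∧ c.φ t = u := by
      intro u hu
      have hu' : u ∈ (T' : Subgroup ↥N).map c.φ := by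
        have e : (U : Subgroup A5) = (T' : Subgroup ↥N).map c.φ := Sylow.coe_mapSurjective c.φ_surj T'
        rwa [e] at hu
      obtain ⟨t, ht, rfl⟩ := hu'
      exact ⟨t, (show t ∈ (((n : G) • c.S0 : Sylow 2 G) : Subgroup G).subgroupOf N from ht), rfl⟩
    refine hmem σ ?_
    by_contra hσU
    have hsub : insert σ ((U : Subgroup A5) : Set A5) ⊆
        ((Finset.univ.filter fun σ : A5 => σ * σ = 1 ∧ (σ : Perm (Fin 5)) 4 = 4) : Set A5) := by
      refine Set.insert_subset (by simp only [Finset.coe_filter, Finset.mem_univ, true_and]; exact ⟨hσ, hσ4⟩) fun u hu => ?_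
      obtain ⟨t, ht, rfl⟩ := hmem u hu
      simp only [Finset.coe_filter, Finset.mem_univ, true_and]
      exact hv t ht
    have := Set.ncard_le_ncard hsub
    rw [Set.ncard_insert_of_notMem (show σ ∉ ((U : Subgroup A5) : Set A5) from hσU), Set.ncard_coe_finset,
      card_v4, ← Nat.card_coe_set_eq] at this
    change Nat.card (U : Subgroup A5) + 1 ≤ 4 at this
    omega
  · obtain ⟨x, hx, hx2, hxA⟩ := c.exists_outside
    refine ⟨(n : G) * x * (n : G)⁻¹, (hT _).2 ⟨x, hx, rfl⟩, ?_, fun h => hxA ?_⟩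
    · rw [show (n : G) * x * (n : G)⁻¹ * (n * x * (n : G)⁻¹) = n * (x * x) * (n : G)⁻¹ by group, hx2,
        mul_one, mul_inv_cancel]
    · obtain ⟨f, hf⟩ := c.ι_surj _ h
      have := c.act n⁻¹ f
      rw [hf] at this
      simp only [Subgroup.coe_inv, inv_inv] at this
      rw [show x = (n : G)⁻¹ * ((n : G) * x * (n : G)⁻¹) * n by group, this]
      exact c.ι_mem _

set_option maxHeartbeats 1600000 in
theorem exists_pointData : Nonempty (PointData c) := by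
  classical
  haveI := Fact.mk Nat.prime_two
  obtain ⟨T, hTN, hAT, hTv, hlift, x₁, hx₁, hx₁2, hx₁A⟩ := exists_point_sylow c
  have hTX : (T : Subgroup G) ≤ c.X := fun t ht => (c.φ_X ⟨t, hTN ht⟩).2 (hTv ⟨t, hTN ht⟩ ht).2
  have hker : ∀ t : ↥N, (t : G) ∈ (T : Subgroup G) → c.φ t = 1 → (t : G) ∈ A := fun t ht h =>
    c.mem_A_of_two T.2 h ht
  -- the element of order three
  obtain ⟨π, hπ4, hπ3⟩ := exists_three
  obtain ⟨w₁, rfl⟩ := c.φ_surj π
  have hw₁X : (w₁ : G) ∈ c.X := (c.φ_X w₁).2 hπ4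
  obtain ⟨o, ho, hnorm⟩ := exists_normalize (P := (T : Subgroup G)) (O := O) (g := (w₁ : G)) T.2 c.O_odd
    (fun t ht o ho => c.O_norm t (hTN ht) o ho)
    (fun t ht => by
      obtain ⟨h1, h2⟩ := hTv ⟨t, hTN ht⟩ ht
      obtain ⟨h1', h2'⟩ := conj_v4 _ _ hπ4 h2 h1
      obtain ⟨s, hs, hse⟩ := hlift _ h1' h2'
      obtain ⟨a, ha, o, ho, he⟩ := c.dec (s⁻¹ * (w₁ * ⟨t, hTN ht⟩ * w₁⁻¹)) (by
        simp only [map_mul, map_inv, hse, inv_mul_cancel])
      refine ⟨s * a, mul_mem hs (hAT ha), o, ho, ?_⟩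
      have he' : (s : G)⁻¹ * ((w₁ : G) * t * (w₁ : G)⁻¹) = a * o := he
      rw [mul_assoc (s : G), ← he', mul_inv_cancel_left])
  set w₀ : ↥N := ⟨o, c.O_le ho⟩ * w₁ with hw₀
  have hw₀φ : c.φ w₀ = c.φ w₁ := by rw [hw₀, map_mul, c.φ_O ⟨o, c.O_le ho⟩ ho, one_mul]
  have hw₀X : (w₀ : G) ∈ c.X := mul_mem
    (c.mem_X.2 (c.O_comm o ho _ (c.ι_mem e4))) hw₁X
  set w : ↥N := w₀ * w₀ * (w₀ * w₀) with hw
  have hwT : ∀ t ∈ (T : Subgroup G), (w : G) * t * (w : G)⁻¹ ∈ (T : Subgroup G) := by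
    intro t ht
    have h := hnorm _ (hnorm _ (hnorm _ (hnorm t ht)))
    convert h using 1
    simp only [hw, hw₀, Subgroup.coe_mul]
    group
  obtain ⟨h3, hfpf, hperm, hcover⟩ := three_act _ hπ4 hπ3
  have hwφ : c.φ w = c.φ w₁ := by
    rw [hw, map_mul, map_mul, hw₀φ, ← mul_assoc, h3, one_mul]
  have hwX : (w : G) ∈ c.X := mul_mem (mul_mem hw₀X hw₀X) (mul_mem hw₀X hw₀X)
  -- the involutions outside `A`
  set x : ↥N := ⟨x₁, hTN hx₁⟩ with hx
  have hσ1 : c.φ x ≠ 1 := fun h => hx₁A (hker x hx₁ h)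
  obtain ⟨hσ, hσ4⟩ := hTv x hx₁
  set y : ↥N := w * x * w⁻¹ with hy
  set z : ↥N := w * y * w⁻¹ with hz
  have hxT : (x : G) ∈ (T : Subgroup G) := hx₁
  have hyT : (y : G) ∈ (T : Subgroup G) := hwT _ hxT
  have hzT : (z : G) ∈ (T : Subgroup G) := hwT _ hyT
  have hinv2 : ∀ u : ↥N, (u : G) * u = 1 → ((w * u * w⁻¹ : ↥N) : G) * (w * u * w⁻¹ : ↥N) = 1 := by
    intro u hu
    simp only [Subgroup.coe_mul, Subgroup.coe_inv]
    rw [show (w : G) * u * (w : G)⁻¹ * (w * u * (w : G)⁻¹) = w * (u * u) * (w : G)⁻¹ by group, hu,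
      mul_one, mul_inv_cancel]
  have hx2 : (x : G) * x = 1 := hx₁2
  have hy2 : (y : G) * y = 1 := hinv2 x hx2
  have hz2 : (z : G) * z = 1 := hinv2 y hy2
  have hyφ : c.φ y = c.φ w₁ * c.φ x * (c.φ w₁)⁻¹ := by rw [hy, map_mul, map_mul, map_inv, hwφ]
  have hzφ : c.φ z = c.φ w₁ * c.φ w₁ * c.φ x * (c.φ w₁ * c.φ w₁)⁻¹ := by
    rw [hz, map_mul, map_mul, map_inv, hyφ, hwφ]; group
  obtain ⟨hne, hprod⟩ := hperm _ hσ hσ4 hσ1
  -- `x y` is `z` up to an element of `W`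
  set a₀ : ↥N := z⁻¹ * (x * y) with ha₀
  have ha₀A : (a₀ : G) ∈ A := hker a₀ (mul_mem (inv_mem hzT) (mul_mem hxT hyT)) (by
    rw [show c.φ a₀ = (c.φ z)⁻¹ * (c.φ x * c.φ y) by rw [ha₀]; simp only [map_mul, map_inv],
      hzφ, hyφ, ← hprod, inv_mul_cancel])
  obtain ⟨f₀, hf₀⟩ := c.ι_surj _ ha₀A
  have hinX : ∀ t : ↥N, (t : G) ∈ (T : Subgroup G) → ∀ f, lam (rot (c.φ t : Perm (Fin 5)) f + f) = 0 :=
    fun t ht f => (act_v _ (hTv t ht).1 (hTv t ht).2 f).1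
  have hlam : lam f₀ = 0 := by
    by_contra hcon
    have hl : lam f₀ = 1 := ((add_e4 f₀ f₀).2.2.2).resolve_left hcon
    -- `b` is the square of `x y`
    set b : ↥N := x * y * (x * y) with hb
    have hbA : (b : G) ∈ A := hker b (mul_mem (mul_mem hxT hyT) (mul_mem hxT hyT)) (by
      rw [hb, map_mul]
      exact four_group _ _ hσ hσ4 (hTv y hyT).1 (hTv y hyT).2 |> fun h => by rw [map_mul]; exact h)
    obtain ⟨g, hg⟩ := c.ι_surj _ hbA
    have hbx : (x : G) * b = b * x := by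
      have e1 : (x : G) * b * x = (b : G)⁻¹ := by
        simp only [hb, Subgroup.coe_mul]
        rw [show (x : G) * (x * y * (x * y)) * x = (x * x) * y * x * y * x by group, hx2, one_mul,
          show ((x : G) * y * (x * y))⁻¹ = (y : G)⁻¹ * (x : G)⁻¹ * (y : G)⁻¹ * (x : G)⁻¹ by group,
          inv_eq_of_mul_eq_one_right hx2, inv_eq_of_mul_eq_one_right hy2]
      rw [inv_eq_of_mul_eq_one_right (c.A_sq hbA)] at e1
      calc (x : G) * b = x * b * (x * x) := by rw [hx2, mul_one]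
        _ = (x * b * x) * x := by group
        _ = b * x := by rw [e1]
    have hby : (y : G) * b = b * y := by
      have e1 : (y : G) * b * y = (b : G)⁻¹ := by
        simp only [hb, Subgroup.coe_mul]
        rw [show (y : G) * (x * y * (x * y)) * y = y * x * y * x * (y * y) by group, hy2, mul_one,
          show ((x : G) * y * (x * y))⁻¹ = (y : G)⁻¹ * (x : G)⁻¹ * (y : G)⁻¹ * (x : G)⁻¹ by group,
          inv_eq_of_mul_eq_one_right hx2, inv_eq_of_mul_eq_one_right hy2]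
      rw [inv_eq_of_mul_eq_one_right (c.A_sq hbA)] at e1
      calc (y : G) * b = y * b * (y * y) := by rw [hy2, mul_one]
        _ = (y * b * y) * y := by group
        _ = b * y := by rw [e1]
    rw [← hg, c.fix_iff] at hbx hby
    have hy1 : c.φ y ≠ 1 := by
      rw [hyφ, Ne, mul_inv_eq_one, mul_eq_left]; exact hσ1
    have hgc := common_fixed _ _ hσ hσ4 hσ1 (hTv y hyT).1 (hTv y hyT).2 hy1 (by
      rw [hyφ]; exact hne.symm) g hbx hby
    -- but it is a commutator of `z`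
    have hb' : (b : G) = c.ι (rot (c.φ z : Perm (Fin 5)) f₀ + f₀) := by
      rw [← c.comm_ι, c.inv, hf₀]
      simp only [hb, ha₀, Subgroup.coe_mul, Subgroup.coe_inv]
      rw [inv_eq_of_mul_eq_one_right hz2]
      rw [show (z : G) * (z * ((x : G) * y)) * z * (z * (x * y)) = (z * z) * (x * y) * (z * z) * (x * y) by group,
        hz2, one_mul, mul_one]
    rw [← hg, c.ι_eq] at hb'
    have hz1 : c.φ z ≠ 1 := by
      rw [hzφ, Ne, mul_inv_eq_one, mul_eq_left]; exact hσ1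
    obtain ⟨hA1, hA2⟩ := (act_v _ (hTv z hzT).1 (hTv z hzT).2 f₀).2.2.1 hz1 hl
    rcases hgc with h | h
    · exact hA1 ((eqv_key _ _ hb').1 h)
    · exact hA2 ((eqv_key _ _ hb').2 h)
  -- squares lie in `W`
  have hrep : ∀ t : ↥N, (t : G) ∈ (T : Subgroup G) → ∃ u : ↥N, (u = 1 ∨ u = x ∨ u = y ∨ u = z) ∧
      c.φ t = c.φ u := by
    intro t ht
    obtain ⟨h1, h4⟩ := hTv t ht
    rcases v4_cases (c.φ w₁) (c.φ x) (c.φ t) hne hσ hσ4 hσ1 hπ4 h1 h4 with h | h | h | h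
    · exact ⟨1, Or.inl rfl, by rw [h, map_one]⟩
    · exact ⟨x, Or.inr (Or.inl rfl), h⟩
    · exact ⟨y, Or.inr (Or.inr (Or.inl rfl)), by rw [h, hyφ]⟩
    · exact ⟨z, Or.inr (Or.inr (Or.inr rfl)), by rw [h, hzφ, hprod]⟩
  have hrepT : ∀ u : ↥N, (u = 1 ∨ u = x ∨ u = y ∨ u = z) →
      (u : G) ∈ (T : Subgroup G) ∧ (u : G) * u = 1 := by
    rintro u (rfl | rfl | rfl | rfl)
    · exact ⟨one_mem _, mul_one _⟩
    · exact ⟨hxT, hx2⟩
    · exact ⟨hyT, hy2⟩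
    · exact ⟨hzT, hz2⟩
  have hsplit : ∀ t : ↥N, (t : G) ∈ (T : Subgroup G) → ∃ u : ↥N, (u = 1 ∨ u = x ∨ u = y ∨ u = z) ∧
      ∃ f, (t : G) = u * c.ι f ∧ (t : G) * t = c.ι (rot (c.φ u : Perm (Fin 5)) f + f) := by
    intro t ht
    obtain ⟨u, hu, he⟩ := hrep t ht
    obtain ⟨huT, hu2⟩ := hrepT u hu
    obtain ⟨f, hf⟩ := c.ι_surj _ (hker (u⁻¹ * t) (mul_mem (inv_mem huT) ht) (by
      rw [map_mul, map_inv, he, inv_mul_cancel]))
    have hte : (t : G) = u * c.ι f := by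
      rw [hf, Subgroup.coe_mul, Subgroup.coe_inv, mul_inv_cancel_left]
    refine ⟨u, hu, f, hte, ?_⟩
    rw [← c.comm_ι, c.inv, hte, inv_eq_of_mul_eq_one_right hu2]
    group
  have hsqW : ∀ t ∈ (T : Subgroup G), t * t ∈ c.W := fun t ht => by
    obtain ⟨u, hu, f, -, hf⟩ := hsplit ⟨t, hTN ht⟩ ht
    rw [hf, c.mem_W]
    exact hinX u (hrepT u hu).1 f
  -- transfer
  let Tx : Sylow 2 ↥c.X := T.subtype hTX
  have hqX : c.ι q04 ∈ c.X := c.A_le_X (c.ι_mem _)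
  let Z : Set (Subgroup ↥(Tx : Subgroup ↥c.X)) :=
    {L | (∀ t : ↥(Tx : Subgroup ↥c.X), ((t : ↥c.X) : G) ∈ c.W → t ∈ L) ∧
      ∀ t ∈ L, ((t : ↥c.X) : G) ≠ c.ι q04}
  have hW_T : c.W ≤ (T : Subgroup G) := c.W_le.trans hAT
  obtain ⟨L, hL⟩ := (Set.toFinite Z).exists_maximal
    ⟨(c.W.comap c.X.subtype).subgroupOf _, fun t ht => ht, fun t ht he => by
      have : lam q04 = 0 := c.mem_W.1 (he ▸ (ht : ((t : ↥c.X) : G) ∈ c.W))
      rw [basic.2.2.2.2.2.2.2.2.2.2.1] at this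
      exact one_ne_zero this⟩
  have hsqL : ∀ t : ↥(Tx : Subgroup ↥c.X), t * t ∈ L := fun t => hL.1.1 _ (hsqW _ (mem_subgroupOf.1 t.2))
  haveI hLn : L.Normal := ⟨fun l hl s => by
    have : s * l * s⁻¹ = (s * s) * ((s⁻¹ * l) * (s⁻¹ * l)) * (l⁻¹ * l⁻¹) * l := by group
    rw [this]
    exact mul_mem (mul_mem (mul_mem (hsqL _) (hsqL _)) (hsqL _)) hl⟩
  let qT : ↥(Tx : Subgroup ↥c.X) := ⟨⟨c.ι q04, hqX⟩, mem_subgroupOf.2 (hAT (c.ι_mem _))⟩
  have hidx : L.index = 2 := by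
    rw [index_eq_two_iff]
    refine ⟨qT, fun s => ?_⟩
    by_cases hs : s ∈ L
    · refine Or.inr ⟨hs, fun h => hL.1.2 qT ?_ rfl⟩
      have := mul_mem (inv_mem hs) h
      rwa [inv_mul_cancel_left] at this
    · refine Or.inl ⟨?_, hs⟩
      have hlt : L < L ⊔ zpowers s := lt_of_le_of_ne le_sup_left fun h =>
        hs (h ▸ mem_sup_right (mem_zpowers s))
      obtain ⟨t, ht, hte⟩ : ∃ t ∈ L ⊔ zpowers s, ((t : ↥c.X) : G) = c.ι q04 := by
        by_contra hcon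
        push Not at hcon
        exact hlt.not_ge (hL.2 ⟨fun t ht => mem_sup_left (hL.1.1 t ht), hcon⟩ le_sup_left)
      obtain ⟨l, hl, r, ⟨i, hr⟩, he⟩ := mem_sup_of_normal_left.1 ht
      have heq : qT = l * s ^ i := by
        rw [show s ^ i = r from hr, he]; exact Subtype.ext (Subtype.ext hte.symm)
      rcases Int.even_or_odd i with ⟨j, hj⟩ | ⟨j, hj⟩
      · exfalso
        refine hL.1.2 qT ?_ rfl
        rw [heq, hj, ← two_mul, zpow_mul, zpow_two]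
        exact mul_mem hl (zpow_mem (hsqL s) _)
      · have h2 : s * qT = (s * l * s⁻¹) * (s * s) ^ (j + 1) := by
          rw [heq, hj, ← zpow_two, ← zpow_mul]
          group
        rw [h2]
        exact mul_mem (hLn.conj_mem l hl s) (zpow_mem (hsqL s) _)
  let Q : Subgroup ↥c.X := L.map (Tx : Subgroup ↥c.X).subtype
  have hQT : Q ≤ (Tx : Subgroup ↥c.X) := map_subtype_le _
  have hQi : Q.relIndex (Tx : Subgroup ↥c.X) = 2 := by
    rw [relIndex, show Q.subgroupOf (Tx : Subgroup ↥c.X) = L from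
      comap_map_eq_self_of_injective (Subgroup.subtype_injective _) L, hidx]
  set qX : ↥c.X := ⟨c.ι q04, hqX⟩ with hq
  have hqc : ∀ g : ↥c.X, g * qX * g⁻¹ ∉ Q := by
    rintro g ⟨t, ht, hte⟩
    have hte' : ((t : ↥c.X) : G) = (g : G) * c.ι q04 * (g : G)⁻¹ := by
      have := congrArg Subtype.val hte
      simpa [hq] using this
    have htT : ((t : ↥c.X) : G) ∈ (T : Subgroup G) := mem_subgroupOf.1 t.2
    obtain ⟨f', he, h4, hf'0⟩ := c.conj_in basic.2.2.2.2.2.2.2.2.2.2.2 (hte' ▸ hTN htT)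
    have hgc : (g : G) * c.ι e4 * (g : G)⁻¹ = c.ι e4 := mul_inv_eq_iff_eq_mul.2 (c.mem_X.1 g.2)
    have h4' := c.conj_four (g := (g : G)) (f := q04 + e4) (f' := f' + e4) q04_kind.2.2 (by
      rw [c.ι_add, c.ι_add, ← he]
      calc (g : G) * (c.ι q04 * c.ι e4) * (g : G)⁻¹
          = g * c.ι q04 * (g : G)⁻¹ * (g * c.ι e4 * (g : G)⁻¹) := by group
        _ = g * c.ι q04 * (g : G)⁻¹ * c.ι e4 := by rw [hgc])
    have hf'1 : lam f' = 1 := by
      refine (add_e4 f' f').2.2.2.resolve_left fun h0 => ?_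
      rcases (w_char f').1 h0 with e | e | ⟨-, e⟩
      · exact hf'0 e
      · exact q04_kind.1 (h4.1 ((four_eqv _ _ e).2 basic.2.1))
      · exact e (h4'.2 q04_kind.2.1)
    have hW' : c.ι (f' + q04) ∈ c.W :=
      c.mem_W.2 ((add_e4 f' q04).2.2.1 hf'1 basic.2.2.2.2.2.2.2.2.2.2.1)
    have hm := hL.1.1 (t * qT) (by
      show ((t : ↥c.X) : G) * c.ι q04 ∈ c.W
      rw [hte', he, ← c.ι_add]; exact hW')
    refine hL.1.2 qT ?_ rfl
    have := mul_mem (inv_mem ht) hm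
    rwa [inv_mul_cancel_left] at this
  have hqo : orderOf qX = 2 := by
    refine orderOf_eq_prime ?_ fun h => ?_
    · rw [pow_two]; exact Subtype.ext (c.sq q04)
    · exact basic.2.2.2.2.2.2.2.2.2.2.2 (c.eq_one.1 (congrArg Subtype.val h))
  obtain ⟨M, hMi, hqM⟩ := Fusion.Thompson.exists_index_two_of_fixedPointFree (G := ↥c.X)
    (α := ↥c.X ⧸ Q) (by
      rw [← Subgroup.index_eq_card, ← relIndex_mul_index hQT, hQi]
      have : ¬ 2 ∣ (Tx : Subgroup ↥c.X).index := Tx.not_dvd_index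
      omega) qX hqo (fun v => by
      induction v using QuotientGroup.induction_on with
      | H k =>
        intro he
        rw [MulAction.Quotient.smul_mk, smul_eq_mul, QuotientGroup.eq] at he
        refine hqc k⁻¹ ?_
        simpa [mul_assoc] using Q.inv_mem he)
  haveI hMn : M.Normal := normal_of_index_eq_two hMi
  set K : Subgroup G := M.map c.X.subtype with hK
  have hmemK : ∀ g : ↥c.X, (g : G) ∈ K ↔ g ∈ M := fun g => by
    rw [hK]
    exact ⟨fun ⟨m, hm, he⟩ => Subtype.ext he ▸ hm, fun h => ⟨g, h, rfl⟩⟩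
  have hWK : c.W ≤ K := by
    rintro _ ⟨f, hf, rfl⟩
    obtain ⟨σ, hs2, hs4, h, hh⟩ := w_gen f hf
    obtain ⟨t, ht, rfl⟩ := hlift σ hs2 hs4
    rw [← (c.ι_eq _ _).2 hh, ← c.comm_ι]
    let tX : ↥c.X := ⟨t, hTX ht⟩
    let hX : ↥c.X := ⟨c.ι h, c.A_le_X (c.ι_mem h)⟩
    refine (hmemK (tX * hX * tX⁻¹ * hX⁻¹)).2 ?_
    rw [mul_mem_iff_of_index_two hMi, mul_mem_iff_of_index_two hMi, mul_mem_iff_of_index_two hMi]
    simp only [inv_mem_iff]
    tauto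
  have hsqK : ∀ g ∈ c.X, g * g ∈ K := fun g hg => (hmemK ⟨g * g, mul_mem hg hg⟩).2 (by
    exact mul_self_mem_of_index_two hMi ⟨g, hg⟩)
  have hoddK : ∀ g ∈ c.X, Odd (orderOf g) → g ∈ K := by
    intro g hg ho
    obtain ⟨k, hk⟩ := ho
    have : g = g ^ (k + 1) * g ^ (k + 1) := by
      rw [← pow_add, show k + 1 + (k + 1) = orderOf g + 1 by omega, pow_succ, pow_orderOf_eq_one, one_mul]
    rw [this]
    exact hsqK _ (pow_mem hg _)
  have hKc : ∀ g ∈ c.X, ∀ k ∈ K, g * k * g⁻¹ ∈ K := by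
    rintro g hg _ ⟨k, hk, rfl⟩
    exact ⟨⟨g, hg⟩ * k * ⟨g, hg⟩⁻¹, hMn.conj_mem k hk _, rfl⟩
  have hqK : c.ι q04 ∉ K := fun h => hqM ((hmemK qX).1 h)
  have hAK : ∀ f, c.ι f ∈ K → lam f = 0 := fun f hf => by
    refine ((add_e4 f f).2.2.2).resolve_right fun h1 => hqK ?_
    have h2 := mul_mem (inv_mem hf) (hWK (c.mem_W.2 ((add_e4 f q04).2.2.1 h1 basic.2.2.2.2.2.2.2.2.2.2.1)))
    rwa [c.ι_add, inv_mul_cancel_left] at h2
  have hwK : (w : G) ∈ K := hsqK _ (mul_mem hw₀X hw₀X)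
  -- the three involutions are in `K`
  have hxK : (x : G) ∈ K := by
    by_contra hxK
    have hxX : (x : G) ∈ c.X := hTX hxT
    have hconj : ∀ u : ↥N, (u : G) ∈ c.X → (u : G) ∉ K → ((w * u * w⁻¹ : ↥N) : G) ∉ K := by
      intro u _ hu h
      refine hu ?_
      have := hKc _ (inv_mem hwX) _ h
      simpa [mul_assoc] using this
    have hyK : (y : G) ∉ K := hconj x hxX hxK
    have hzK : (z : G) ∉ K := hconj y (hTX hyT) hyK
    have h1 : (⟨x, hxX⟩ * ⟨y, hTX hyT⟩ : ↥c.X) ∈ M :=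
      (mul_mem_iff_of_index_two hMi).2 ⟨fun h => absurd ((hmemK ⟨x, hxX⟩).2 h) hxK,
        fun h => absurd ((hmemK ⟨y, hTX hyT⟩).2 h) hyK⟩
    refine hzK ?_
    have h2 := mul_mem ((hmemK _).2 h1) (inv_mem (hWK (c.mem_W.2 hlam)))
    rw [hf₀] at h2
    simpa [ha₀, mul_assoc] using h2
  have hrepK : ∀ u : ↥N, (u = 1 ∨ u = x ∨ u = y ∨ u = z) → (u : G) ∈ K := by
    have hyK : (y : G) ∈ K := hKc _ hwX _ hxK
    rintro u (rfl | rfl | rfl | rfl)
    exacts [one_mem _, hxK, hyK, hKc _ hwX _ hyK]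
  refine ⟨{
    T := T, T_le := hTN, A_le := hAT, T_X := hTX, T_v := hTv
    K := K, K_le := map_subtype_le _, K_conj := hKc, q_not := hqK
    K_or := fun g hg => ?_, W_K := hWK, odd_K := hoddK, lift := ?_, sq := ?_
    w := w, w_K := hwK, w_T := hwT, w_fix := hwφ ▸ hπ4, w_three := hwφ ▸ hπ3 }⟩
  · by_cases h : g ∈ K
    · exact Or.inl h
    · refine Or.inr ((hmemK ⟨g * c.ι q04, mul_mem hg hqX⟩).2 ?_)
      exact (mul_mem_iff_of_index_two hMi (a := ⟨g, hg⟩) (b := qX)).2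
        ⟨fun h' => absurd ((hmemK ⟨g, hg⟩).2 h') h, fun h' => absurd h' hqM⟩
  · intro σ h2 h4
    obtain ⟨t, ht, rfl⟩ := hlift σ h2 h4
    obtain ⟨u, hu, he⟩ := hrep t ht
    exact ⟨u, (hrepT u hu).1, hrepK u hu, he.symm⟩
  · intro t ht htK
    obtain ⟨u, hu, f, hte, hsq⟩ := hsplit ⟨t, hTN ht⟩ ht
    have hfK : c.ι f ∈ K := by
      have := mul_mem (inv_mem (hrepK u hu)) htK
      rwa [show t = (u : G) * c.ι f from hte, inv_mul_cancel_left] at this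
    have huv := hTv u (hrepT u hu).1
    rcases (act_v _ huv.1 huv.2 f).2.1 (hAK f hfK) with h | h
    · exact Or.inl (hsq.trans (c.eq_one.2 h))
    · exact Or.inr (hsq.trans ((c.ι_eq _ _).2 h).symm)

end Cfsg.Agent.Lib.Inv59.ASixteen
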