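import Mathlib
import Cfsg.Agent.Lib.Inv59.ASixteen.Point.Base
import Cfsg.Agent.Lib.ProductFusion.Main
import Cfsg.Agent.Lib.ProductFusion.Direct

/-!
# The centraliser of a point of the module: product fusion
-/

set_option autoImplicit false
set_option linter.unusedSectionVars false
set_option linter.style.haveILetI false

namespace Cfsg.Agent.Lib.Inv59.ASixteen

open Equiv Subgroup
open scoped commutatorElement

universe u

local notation "A5" => alternatingGroup (Fin 5)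

section Generic

variable {Q : Type u} [Group Q]

/-- A subgroup of exponent two on three elements and the identity. -/
def tripleSubgroup {a b d : Q} (ha : a * a = 1) (hb : b * b = 1) (hd : d * d = 1) (hab : a * b = d)
    (hba : b * a = d) : Subgroup Q where
  carrier := {1, a, b, d}
  one_mem' := Or.inl rfl
  mul_mem' := by
    have e1 : a * d = b := by rw [← hab, ← mul_assoc, ha, one_mul]
    have e2 : d * a = b := by rw [← hba, mul_assoc, ha, mul_one]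
    have e3 : b * d = a := by rw [← hba, ← mul_assoc, hb, one_mul]
    have e4 : d * b = a := by rw [← hab, mul_assoc, hb, mul_one]
    rintro p q (rfl | rfl | rfl | rfl) (rfl | rfl | rfl | rfl) <;>
      simp_all [Set.mem_insert_iff]
  inv_mem' := by
    rintro p (rfl | rfl | rfl | rfl)
    · simp
    · rw [inv_eq_of_mul_eq_one_right ha]; exact Or.inr (Or.inl rfl)
    · rw [inv_eq_of_mul_eq_one_right hb]; exact Or.inr (Or.inr (Or.inl rfl))
    · rw [inv_eq_of_mul_eq_one_right hd]; exact Or.inr (Or.inr (Or.inr rfl))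

variable [Finite Q]

/-- An exponent two Sylow subgroup and a strongly closed subgroup `V` whose elements lie in products
of strongly closed subgroups disjoint from `V`: then `V` is normal modulo the core. -/
theorem closed_of_triple (P : Sylow 2 Q) (h2 : ∀ p ∈ (P : Subgroup Q), p * p = 1) {V : Subgroup Q}
    (hV : IsStronglyClosed V (P : Subgroup Q))
    (hcov : ∀ v ∈ V, ∃ B C : Subgroup Q, IsStronglyClosed B (P : Subgroup Q) ∧
      IsStronglyClosed C (P : Subgroup Q) ∧ V ⊓ B = ⊥ ∧ V ⊓ C = ⊥ ∧ v ∈ B ⊔ C) :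
    ∀ (g v : Q), v ∈ V → ∃ v' ∈ V, ∃ o ∈ pPrimeCore 2 Q, g * v * g⁻¹ = v' * o := by
  haveI := Fact.mk Nat.prime_two
  set O := pPrimeCore 2 Q with hO
  haveI hOn : O.Normal := Subgroup.sSup_normal _ (fun _ h => h.1)
  have hOodd : Odd (Nat.card O) := Nat.coprime_two_right.1 (Cores.pPrimeCore_coprime 2)
  have hcomm : ∀ a ∈ (P : Subgroup Q), ∀ b ∈ (P : Subgroup Q), a * b = b * a := fun a ha b hb => by
    have h := h2 _ (mul_mem ha hb)
    calc a * b = (a * b)⁻¹ := eq_inv_of_mul_eq_one_left h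
      _ = b * a := by rw [mul_inv_rev, inv_eq_of_mul_eq_one_right (h2 a ha), inv_eq_of_mul_eq_one_right (h2 b hb)]
  have hb : ∀ Y : Subgroup Q, IsStronglyClosed Y (P : Subgroup Q) → V ⊓ Y = ⊥ →
      ⁅normalClosure (V : Set Q), normalClosure (Y : Set Q)⁆ ≤ O := fun Y hY hVY =>
    ProductFusion.comm_of_card _ Q rfl P V Y
      ⟨hV, hY, fun a ha b hb => hcomm a (hV.1 ha) b (hY.1 hb), hVY⟩
  let π := QuotientGroup.mk' O
  have hπs := QuotientGroup.mk'_surjective O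
  set L := (normalClosure (V : Set Q)).map π with hL
  have hzero : ∀ Y : Subgroup Q, ⁅normalClosure (V : Set Q), normalClosure (Y : Set Q)⁆ ≤ O →
      (normalClosure (Y : Set Q)).map π ≤ centralizer (L : Set (Q ⧸ O)) := by
    intro Y h
    rw [le_centralizer_iff, ← commutator_eq_bot_iff_le_centralizer, hL, ← map_commutator,
      Subgroup.map_eq_bot_iff, QuotientGroup.ker_mk']
    exact h
  haveI hLn : L.Normal := Subgroup.Normal.map inferInstance π hπs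
  have hLc : L ≤ centralizer (L : Set (Q ⧸ O)) := by
    rw [hL, map_le_iff_le_comap]
    refine normalClosure_le_normal fun v hv => ?_
    obtain ⟨B, C, hB, hC, hVB, hVC, hvBC⟩ := hcov v hv
    have h1 := (sup_le_sup subset_normalClosure subset_normalClosure :
      B ⊔ C ≤ normalClosure (B : Set Q) ⊔ normalClosure (C : Set Q)) hvBC
    refine mem_comap.2 ?_
    have h2 : (normalClosure (B : Set Q) ⊔ normalClosure (C : Set Q)).map π ≤ centralizer (L : Set (Q ⧸ O)) := by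
      rw [Subgroup.map_sup]
      exact sup_le (hzero B (hb B hB hVB)) (hzero C (hb C hC hVC))
    exact h2 ⟨v, h1, rfl⟩
  have hVP : ∀ v ∈ V, π v * π v = 1 := fun v hv => by rw [← map_mul, h2 v (hV.1 hv), map_one]
  have hL2 : ∀ l ∈ L, l * l = 1 := by
    let T : Subgroup (Q ⧸ O) :=
      { carrier := {l | l ∈ L ∧ l * l = 1}
        one_mem' := ⟨one_mem L, mul_one 1⟩
        mul_mem' := fun {a b} ha hb => ⟨mul_mem ha.1 hb.1, by
          rw [show a * b * (a * b) = a * (b * a) * b by group,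
            mem_centralizer_iff.1 (hLc ha.1) b hb.1, show a * (a * b) * b = (a * a) * (b * b) by group,
            ha.2, hb.2, mul_one]⟩
        inv_mem' := fun {a} ha => ⟨inv_mem ha.1, by rw [← mul_inv_rev, ha.2, inv_one]⟩ }
    have hle' : L ≤ T := by
      rw [hL, map_le_iff_le_comap, normalClosure, closure_le]
      intro x hx
      obtain ⟨v, hv, hvx⟩ := Group.mem_conjugatesOfSet_iff.1 hx
      obtain ⟨g, rfl⟩ := isConj_iff.1 hvx
      refine ⟨⟨_, (inferInstance : (normalClosure (V : Set Q)).Normal).conj_mem v (subset_normalClosure hv) g, rfl⟩, ?_⟩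
      rw [map_mul, map_mul, map_inv,
        show π g * π v * (π g)⁻¹ * (π g * π v * (π g)⁻¹) = π g * (π v * π v) * (π g)⁻¹ by group,
        hVP v hv, mul_one, mul_inv_cancel]
    exact fun l hl => (hle' hl).2
  have hLP : L ≤ ((P.mapSurjective hπs : Sylow 2 (Q ⧸ O)) : Subgroup (Q ⧸ O)) :=
    (isPGroup_sq hL2).le_sylow_of_normal _
  intro g v hv
  have hh : π (g * v * g⁻¹) ∈ L :=
    ⟨_, (inferInstance : (normalClosure (V : Set Q)).Normal).conj_mem v (subset_normalClosure hv) g, rfl⟩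
  have hh' := hLP hh
  rw [Sylow.coe_mapSurjective] at hh'
  obtain ⟨p, hp, hpe⟩ := hh'
  have hpO : p⁻¹ * (g * v * g⁻¹) ∈ O := (QuotientGroup.eq).1 hpe
  obtain ⟨s, -, hse⟩ := conj_of_involutions hOodd hpO (h2 p hp) (by
    rw [mul_inv_cancel_left, show g * v * g⁻¹ * (g * v * g⁻¹) = g * (v * v) * g⁻¹ by group,
      h2 v (hV.1 hv), mul_one, mul_inv_cancel])
  rw [mul_inv_cancel_left] at hse
  refine ⟨p, ?_, _, hpO, (mul_inv_cancel_left p _).symm⟩
  have he : p = (s * g) * v * (s * g)⁻¹ := by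
    rw [show (s * g) * v * (s * g)⁻¹ = s * (g * v * g⁻¹) * s⁻¹ by group, ← hse]; group
  rw [he]
  exact hV.2 v hv _ (he ▸ hp)

end Generic

variable {G : Type u} [Group G] [Finite G] {A N O : Subgroup G} (c : Cfg A N O)

set_option maxHeartbeats 2000000 in
/-- `C(c0) = O(C(c0)) C_N(c0)`. -/
theorem point_centralizer : ∀ g ∈ c.X, ∃ o ∈ oc c.X, ∃ n ∈ N, n ∈ c.X ∧ g = o * n := by
  classical
  haveI := Fact.mk Nat.prime_two
  obtain ⟨D⟩ := exists_pointData c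
  set K := D.K with hK
  have hc0W : c.ι e4 ∈ c.W := c.mem_W.2 basic.2.2.2.2.2.2.2.2.2.1
  have hWX : c.W ≤ c.X := c.W_le.trans c.A_le_X
  have hWT : c.W ≤ (D.T : Subgroup G) := c.W_le.trans D.A_le
  -- the centraliser of `W`
  set E := centralizer (c.W : Set G) with hE
  have hEX : E ≤ c.X := fun g hg => c.mem_X.2 (mem_centralizer_iff.1 hg _ hc0W).symm
  have hAE : A ≤ E := fun a ha => mem_centralizer_iff.2 fun x hx => c.A_comm (c.W_le hx) ha
  have hφE : ∀ n : ↥N, (n : G) ∈ E → c.φ n = 1 := fun n hn => faithful_w _ fun f hf =>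
    (c.fix_iff n f).1 (mem_centralizer_iff.1 hn _ (c.mem_W.2 hf)).symm
  have hEdec : ∀ d ∈ E, ∃ p ∈ A, ∃ o ∈ oc E, d = p * o := exists_complement hAE c.two_A
    (fun R hRE hAR hR r hr => c.mem_A_of_two hR (hφE ⟨r, c.le_N hR hAR hr⟩ (hRE hr)) hr)
    (fun g hg hgA p hp => by
      obtain ⟨a, ha, o, ho, he⟩ := c.dec ⟨g, c.mem_N g hgA⟩ (hφE ⟨g, c.mem_N g hgA⟩ hg)
      have he' : g = a * o := he
      rw [he', mul_assoc, c.O_comm o ho p hp, ← mul_assoc, c.A_comm ha hp, mul_assoc])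
  have hEconj : ∀ g : G, (∀ x ∈ c.W, g * x * g⁻¹ ∈ c.W) → ∀ d ∈ E, g * d * g⁻¹ ∈ E ∧ g⁻¹ * d * g ∈ E := by
    intro g hg d hd
    have hg' : ∀ x ∈ c.W, g⁻¹ * x * g ∈ c.W := by
      have hmap : c.W.map (MulAut.conj g).toMonoidHom = c.W := eq_of_le_of_card_ge
        (by rintro _ ⟨a, ha, rfl⟩; exact hg a ha)
        (card_map_of_injective (MulAut.conj g).injective).ge
      intro x hx
      rw [← hmap] at hx
      obtain ⟨y, hy, rfl⟩ := hx
      show g⁻¹ * (g * y * g⁻¹) * g ∈ c.W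
      simpa [mul_assoc] using hy
    constructor
    · refine mem_centralizer_iff.2 fun x hx => ?_
      have h := mem_centralizer_iff.1 hd _ (hg' x hx)
      calc x * (g * d * g⁻¹) = g * (g⁻¹ * x * g * d) * g⁻¹ := by group
        _ = g * (d * (g⁻¹ * x * g)) * g⁻¹ := by rw [h]
        _ = g * d * g⁻¹ * x := by group
    · refine mem_centralizer_iff.2 fun x hx => ?_
      have h := mem_centralizer_iff.1 hd _ (hg x hx)
      calc x * (g⁻¹ * d * g) = g⁻¹ * (g * x * g⁻¹ * d) * g := by group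
        _ = g⁻¹ * (d * (g * x * g⁻¹)) * g := by rw [h]
        _ = g⁻¹ * d * g * x := by group
  have hocE : ∀ g : G, (∀ x ∈ c.W, g * x * g⁻¹ ∈ c.W) → ∀ o ∈ oc E, g * o * g⁻¹ ∈ oc E :=
    fun g hg o ho => oc_conj (fun d hd => (hEconj g hg d hd).1) (fun d hd => (hEconj g hg d hd).2) ho
  have hNW : ∀ g ∈ c.X, (∀ x ∈ c.W, g * x * g⁻¹ ∈ c.W) →
      ∃ o ∈ oc E, ∃ n ∈ N, n ∈ c.X ∧ g = o * n := by
    intro g hgX hg
    obtain ⟨o, ho, hn⟩ := exists_normalize (P := A) (O := oc E) (g := g) c.two_A (odd_oc E)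
      (fun a ha o ho => oc_conj_self (hAE ha) ho)
      (fun a ha => hEdec _ (hEconj g hg a (hAE ha)).1)
    refine ⟨o⁻¹, inv_mem ho, o * g, c.mem_N _ hn, mul_mem (hEX (oc_le E ho)) hgX, by group⟩
  -- the quotient of `K`
  have hc0K : c.ι e4 ∈ K := D.W_K hc0W
  let z : ↥K := ⟨c.ι e4, hc0K⟩
  have hzc : ∀ k : ↥K, k * z = z * k := fun k => Subtype.ext (c.mem_X.1 (D.K_le k.2))
  haveI hZn : (zpowers z).Normal := ⟨fun m hm k => by
    obtain ⟨i, rfl⟩ := hm
    have hcz : Commute k (z ^ i) := Commute.zpow_right (hzc k) i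
    show k * z ^ i * k⁻¹ ∈ zpowers z
    rw [hcz.eq, mul_inv_cancel_right]
    exact zpow_mem (mem_zpowers z) i⟩
  have hzcases : ∀ k ∈ zpowers z, (k : G) = 1 ∨ (k : G) = c.ι e4 := by
    rintro _ ⟨i, rfl⟩
    show ((z ^ i : ↥K) : G) = 1 ∨ ((z ^ i : ↥K) : G) = c.ι e4
    rw [Subgroup.coe_zpow]
    show c.ι e4 ^ i = 1 ∨ c.ι e4 ^ i = c.ι e4
    rcases Int.even_or_odd i with ⟨j, rfl⟩ | ⟨j, rfl⟩
    · exact Or.inl (by rw [← two_mul, zpow_mul, zpow_two, c.sq, one_zpow])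
    · exact Or.inr (by rw [zpow_add, zpow_mul, zpow_two, c.sq, one_zpow, one_mul, zpow_one])
  let π := QuotientGroup.mk' (zpowers z)
  have hπs := QuotientGroup.mk'_surjective (zpowers z)
  have hπ1 : ∀ k : ↥K, π k = 1 ↔ (k : G) = 1 ∨ (k : G) = c.ι e4 := by
    intro k
    rw [QuotientGroup.mk'_apply, QuotientGroup.eq_one_iff]
    refine ⟨hzcases k, fun h => ?_⟩
    rcases h with h | h
    · rw [show k = 1 from Subtype.ext h]; exact one_mem _
    · rw [show k = z from Subtype.ext h]; exact mem_zpowers z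
  -- Sylow subgroup
  let Kx : Subgroup ↥c.X := K.subgroupOf c.X
  haveI : Kx.Normal := ⟨fun k hk g => D.K_conj g g.2 _ hk⟩
  obtain ⟨Q', hQ'⟩ := ProductFusion.exists_sylow_of_normal (D.T.subtype D.T_X) Kx
  let e : ↥Kx ≃* ↥K := subgroupOfEquivOfLe D.K_le
  let P₁ : Sylow 2 ↥K := Q'.mapSurjective (f := e.toMonoidHom) e.surjective
  have hP₁ : ∀ k : ↥K, k ∈ (P₁ : Subgroup ↥K) ↔ (k : G) ∈ (D.T : Subgroup G) := by
    intro k
    rw [show (P₁ : Subgroup ↥K) = (Q' : Subgroup ↥Kx).map e.toMonoidHom from Sylow.coe_mapSurjective _ Q',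
      hQ', mem_map_equiv]
    rfl
  let P : Sylow 2 (↥K ⧸ zpowers z) := P₁.mapSurjective (f := π) hπs
  have hP : (P : Subgroup (↥K ⧸ zpowers z)) = (P₁ : Subgroup ↥K).map π := Sylow.coe_mapSurjective _ P₁
  have hc0T : c.ι e4 ∈ (D.T : Subgroup G) := hWT hc0W
  have hPmem : ∀ k : ↥K, π k ∈ (P : Subgroup (↥K ⧸ zpowers z)) → (k : G) ∈ (D.T : Subgroup G) := by
    intro k hk
    rw [hP] at hk
    obtain ⟨p, hp, he⟩ := hk
    have hd : π (p⁻¹ * k) = 1 := by rw [map_mul, map_inv, he, inv_mul_cancel]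
    rcases (hπ1 _).1 hd with h | h
    · rw [Subgroup.coe_mul, Subgroup.coe_inv, inv_mul_eq_one] at h
      rw [← h]; exact (hP₁ p).1 hp
    · rw [Subgroup.coe_mul, Subgroup.coe_inv, inv_mul_eq_iff_eq_mul] at h
      rw [h]; exact mul_mem ((hP₁ p).1 hp) hc0T
  have hPmk : ∀ k : ↥K, (k : G) ∈ (D.T : Subgroup G) → π k ∈ (P : Subgroup (↥K ⧸ zpowers z)) := fun k hk => by
    rw [hP]; exact ⟨k, (hP₁ k).2 hk, rfl⟩
  have hP2 : ∀ p ∈ (P : Subgroup (↥K ⧸ zpowers z)), p * p = 1 := by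
    intro p hp
    obtain ⟨k, rfl⟩ := hπs p
    rw [← map_mul, hπ1]
    exact D.sq k (hPmem k hp) k.2
  have hPc : ∀ p ∈ (P : Subgroup (↥K ⧸ zpowers z)), ∀ q ∈ (P : Subgroup (↥K ⧸ zpowers z)), p * q = q * p :=
    fun a ha b hb => by
      have h := hP2 _ (mul_mem ha hb)
      calc a * b = (a * b)⁻¹ := eq_inv_of_mul_eq_one_left h
        _ = b * a := by
          rw [mul_inv_rev, inv_eq_of_mul_eq_one_right (hP2 a ha), inv_eq_of_mul_eq_one_right (hP2 b hb)]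
  haveI : IsMulCommutative (P : Subgroup (↥K ⧸ zpowers z)) :=
    ⟨⟨fun a b => Subtype.ext (hPc a a.2 b b.2)⟩⟩
  -- the element of order three
  let w : ↥K := ⟨D.w, D.w_K⟩
  obtain ⟨hw3, hfpf, hperm, hcover⟩ := three_act _ D.w_fix D.w_three
  have hTK : ∀ t : G, ∀ ht : t ∈ (D.T : Subgroup G), c.φ ⟨t, D.T_le ht⟩ = 1 → t ∈ K →
      ∃ f, lam f = 0 ∧ t = c.ι f := by
    intro t ht h1 htK
    obtain ⟨f, hf⟩ := c.ι_surj t (c.mem_A_of_two D.T.2 (n := ⟨t, D.T_le ht⟩) h1 ht)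
    refine ⟨f, ((add_e4 f f).2.2.2).resolve_right fun h => D.q_not ?_, hf.symm⟩
    have h2 := mul_mem (inv_mem htK) (D.W_K (c.mem_W.2 ((add_e4 f q04).2.2.1 h basic.2.2.2.2.2.2.2.2.2.2.1)))
    rwa [c.ι_add, hf, inv_mul_cancel_left] at h2
  have hwconj : ∀ t : G, t ∈ (D.T : Subgroup G) → ∀ htK : t ∈ K,
      π (w * w * w * ⟨t, htK⟩ * (w * w * w)⁻¹) = π ⟨t, htK⟩ := by
    intro t ht htK
    set m : ↥N := D.w * D.w * D.w with hm
    have hmφ : c.φ m = 1 := by rw [hm, map_mul, map_mul]; exact hw3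
    obtain ⟨a, ha, o, ho, he⟩ := c.dec m hmφ
    have hmK : (m : G) ∈ K := mul_mem (mul_mem D.w_K D.w_K) D.w_K
    have hoK : o ∈ K := D.odd_K o (c.mem_X.2 (c.O_comm o ho _ (c.ι_mem e4))) (odd_orderOf c.O_odd ho)
    obtain ⟨f, hf, rfl⟩ : ∃ f, lam f = 0 ∧ a = c.ι f := by
      refine hTK a (D.A_le ha) (c.φ_A _ ha) ?_
      rw [show a = (m : G) * o⁻¹ by rw [he, mul_inv_cancel_right]]
      exact mul_mem hmK (inv_mem hoK)
    have hot : o * t * o⁻¹ = t := by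
      have hmt : (m : G) * t * (m : G)⁻¹ ∈ (D.T : Subgroup G) := by
        have h := D.w_T _ (D.w_T _ (D.w_T t ht))
        convert h using 1
        simp only [hm, Subgroup.coe_mul]; group
      have h1 : o * t * o⁻¹ * t⁻¹ ∈ (D.T : Subgroup G) := by
        rw [show o * t * o⁻¹ = (c.ι f)⁻¹ * ((m : G) * t * (m : G)⁻¹) * c.ι f by rw [he]; group]
        exact mul_mem (mul_mem (mul_mem (inv_mem (D.A_le (c.ι_mem f))) hmt) (D.A_le (c.ι_mem f))) (inv_mem ht)
      have h2 : o * t * o⁻¹ * t⁻¹ ∈ O := by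
        rw [show o * t * o⁻¹ * t⁻¹ = o * (t * o⁻¹ * t⁻¹) by group]
        exact O.mul_mem ho (c.O_norm t (D.T_le ht) _ (O.inv_mem ho))
      exact mul_inv_eq_one.1 (eq_one_of_odd D.T.2 c.O_odd h1 h2)
    rw [eq_comm, ← inv_mul_eq_one, ← map_inv, ← map_mul, hπ1]
    have hval : ((⟨t, htK⟩⁻¹ * (w * w * w * ⟨t, htK⟩ * (w * w * w)⁻¹) : ↥K) : G) =
        c.ι (rot (c.φ ⟨t⁻¹, D.T_le (inv_mem ht)⟩ : Perm (Fin 5)) f + f) := by
      rw [← c.comm_ι]
      simp only [Subgroup.coe_mul, Subgroup.coe_inv, inv_inv]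
      rw [show (w : G) * w * w = (m : G) by simp [w, hm], he]
      rw [show c.ι f * o * t * (c.ι f * o)⁻¹ = c.ι f * (o * t * o⁻¹) * (c.ι f)⁻¹ by group, hot, c.inv]
      group
    rw [hval]
    have hv := D.T_v ⟨t⁻¹, D.T_le (inv_mem ht)⟩ (inv_mem ht)
    rcases (act_v _ hv.1 hv.2 f).2.1 hf with h | h
    · exact Or.inl (c.eq_one.2 h)
    · exact Or.inr ((c.ι_eq _ _).2 h).symm
  have hwP : ∀ p, p ∈ (P : Subgroup (↥K ⧸ zpowers z)) → π w * p * (π w)⁻¹ ∈ (P : Subgroup (↥K ⧸ zpowers z)) := by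
    intro p hp
    obtain ⟨k, rfl⟩ := hπs p
    rw [← map_inv, ← map_mul, ← map_mul]
    exact hPmk _ (D.w_T _ (hPmem k hp))
  have hw3' : ∀ p ∈ (P : Subgroup (↥K ⧸ zpowers z)),
      π w * (π w * (π w * p * (π w)⁻¹) * (π w)⁻¹) * (π w)⁻¹ = p := by
    intro p hp
    obtain ⟨k, rfl⟩ := hπs p
    have h := hwconj k (hPmem k hp) k.2
    rw [map_mul, map_mul, map_mul, map_mul, map_inv, map_mul, map_mul] at h
    rw [show (⟨(k : G), k.2⟩ : ↥K) = k from rfl] at h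
    change π w * (π w * (π w * π k * (π w)⁻¹) * (π w)⁻¹) * (π w)⁻¹ = π k
    refine Eq.trans ?_ h
    group
  -- the subgroups attached to elements outside `W`
  have key : ∀ u ∈ (P : Subgroup (↥K ⧸ zpowers z)),
      u * (π w * u * (π w)⁻¹) = π w * (π w * u * (π w)⁻¹) * (π w)⁻¹ ∨
        ∃ s : ↥N, (s : G) ∈ (D.T : Subgroup G) ∧ c.φ s = 1 ∧ ∃ hs : (s : G) ∈ K, π ⟨s, hs⟩ = u := by
    intro u hu
    obtain ⟨k, rfl⟩ := hπs u
    have hkT := hPmem k hu
    let s : ↥N := ⟨k, D.T_le hkT⟩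
    by_cases h1 : c.φ s = 1
    · exact Or.inr ⟨s, hkT, h1, k.2, rfl⟩
    refine Or.inl ?_
    set a := (w * (w * k * w⁻¹) * w⁻¹)⁻¹ * (k * (w * k * w⁻¹)) with ha
    set p : ↥K ⧸ zpowers z := π a with hp
    have hpu : p = (π w * (π w * π k * (π w)⁻¹) * (π w)⁻¹)⁻¹ * (π k * (π w * π k * (π w)⁻¹)) := by
      simp only [hp, ha, map_mul, map_inv]
    have hpP : p ∈ (P : Subgroup (↥K ⧸ zpowers z)) := by
      rw [hpu]; exact mul_mem (inv_mem (hwP _ (hwP _ hu))) (mul_mem hu (hwP _ hu))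
    have haT := hPmem a hpP
    obtain ⟨f, hf, hae⟩ := hTK a haT (by
      have hs := hperm _ (D.T_v s hkT).1 (D.T_v s hkT).2 h1
      have : (⟨(a : G), D.T_le haT⟩ : ↥N) = (D.w * (D.w * s * D.w⁻¹) * D.w⁻¹)⁻¹ * (s * (D.w * s * D.w⁻¹)) :=
        Subtype.ext (by simp [ha, w, s])
      rw [this]
      simp only [map_mul, map_inv]
      rw [hs.2]
      group) a.2
    have hfix : π w * p * (π w)⁻¹ = p := by
      rw [hpu]
      have e3 := hw3' _ hu
      generalize π k = u at hu e3 ⊢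
      set b := π w * u * (π w)⁻¹ with hb
      set d := π w * b * (π w)⁻¹ with hd
      rw [show π w * (d⁻¹ * (u * b)) * (π w)⁻¹ = (π w * d * (π w)⁻¹)⁻¹ * (b * d) by
        simp only [hb, hd]; group]
      rw [e3]
      have hbP := hwP _ hu
      have hdP := hwP _ hbP
      rw [inv_eq_of_mul_eq_one_right (hP2 u hu), inv_eq_of_mul_eq_one_right (hP2 d hdP), hPc b hbP d hdP,
        ← mul_assoc u d b, hPc u hu d hdP, mul_assoc]
    have hfW : eqv 0 f ∨ eqv e4 f := by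
      refine hfpf f hf ?_
      have h0 : π (w * a * w⁻¹ * a⁻¹) = 1 := by
        rw [map_mul, map_mul, map_mul, map_inv, map_inv, ← hp, hfix, mul_inv_cancel]
      rw [hπ1] at h0
      have hval : ((w * a * w⁻¹ * a⁻¹ : ↥K) : G) = c.ι (rot (c.φ D.w : Perm (Fin 5)) f + f) := by
        rw [← c.comm_ι, ← hae]; rfl
      rw [hval, c.eq_one] at h0
      rcases h0 with h | h
      · exact Or.inl h
      · exact Or.inr ((c.ι_eq _ _).1 h.symm)
    have hp1 : p = 1 := by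
      rw [hp, hπ1, hae]
      rcases hfW with h | h
      · exact Or.inl (c.eq_one.2 h)
      · exact Or.inr ((c.ι_eq _ _).2 h).symm
    rw [hpu, inv_mul_eq_one] at hp1
    exact hp1.symm
  -- the three subgroups
  let V : Subgroup (↥K ⧸ zpowers z) := (c.W.subgroupOf K).map π
  have hVmem : ∀ k : ↥K, π k ∈ V → (k : G) ∈ c.W := by
    rintro k ⟨v, hv, he⟩
    have hd : π (v⁻¹ * k) = 1 := by rw [map_mul, map_inv, he, inv_mul_cancel]
    rcases (hπ1 _).1 hd with h | h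
    · rw [Subgroup.coe_mul, Subgroup.coe_inv, inv_mul_eq_one] at h
      rw [← h]; exact hv
    · rw [Subgroup.coe_mul, Subgroup.coe_inv, inv_mul_eq_iff_eq_mul] at h
      rw [h]; exact mul_mem hv hc0W
  have hclW : ∀ k : ↥K, ∀ x ∈ c.W, (k : G) * x * (k : G)⁻¹ ∈ (D.T : Subgroup G) → (k : G) * x * (k : G)⁻¹ ∈ c.W :=
    fun k x hx h => c.closed (D.K_le k.2) hx (D.T_le h)
  have hV : IsStronglyClosed V (P : Subgroup (↥K ⧸ zpowers z)) := by
    refine ⟨?_, ?_⟩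
    · rintro _ ⟨v, hv, rfl⟩; exact hPmk v (hWT hv)
    · rintro _ ⟨v, hv, rfl⟩ g hg
      obtain ⟨k, rfl⟩ := hπs g
      rw [← map_inv, ← map_mul, ← map_mul] at hg ⊢
      exact ⟨k * v * k⁻¹, hclW k v hv (hPmem _ hg), rfl⟩
  -- fusion in `P`
  have hfusion : ∀ u ∈ (P : Subgroup (↥K ⧸ zpowers z)), ∀ g, g * u * g⁻¹ ∈ (P : Subgroup (↥K ⧸ zpowers z)) →
      g * u * g⁻¹ = u ∨ g * u * g⁻¹ = π w * u * (π w)⁻¹ ∨
        g * u * g⁻¹ = π w * (π w * u * (π w)⁻¹) * (π w)⁻¹ := by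
    intro u hu g hg
    obtain ⟨g', hg', he⟩ := P.conj_eq_normalizer_conj_of_mem u g⁻¹ hu (by rwa [inv_inv])
    rw [inv_inv] at he
    rw [he]
    obtain ⟨s, rfl⟩ := hπs u
    obtain ⟨k, hk⟩ := hπs g'⁻¹
    have hkn : π k ∈ normalizer ((P : Subgroup (↥K ⧸ zpowers z)) : Set (↥K ⧸ zpowers z)) :=
      hk ▸ inv_mem hg'
    rw [show g'⁻¹ * π s * g' = π k * π s * (π k)⁻¹ by rw [hk, inv_inv]]
    have hkT : ∀ t : ↥K, (t : G) ∈ (D.T : Subgroup G) → ((k * t * k⁻¹ : ↥K) : G) ∈ (D.T : Subgroup G) := by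
      intro t ht
      refine hPmem _ ?_
      rw [map_mul, map_mul, map_inv]
      exact (mem_normalizer_iff.1 hkn _).1 (hPmk t ht)
    have hkW : ∀ x ∈ c.W, (k : G) * x * (k : G)⁻¹ ∈ c.W := fun x hx =>
      hclW k x hx (hkT ⟨x, D.W_K hx⟩ (hWT hx))
    obtain ⟨o, ho, n, hn, hnX, hkon⟩ := hNW k (D.K_le k.2) hkW
    have hsT := hPmem s hu
    set t : G := (k : G) * s * (k : G)⁻¹ with ht
    have htT : t ∈ (D.T : Subgroup G) := hkT s hsT
    have htN := D.T_le htT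
    have htX := D.T_X htT
    -- the conjugate under `n` differs by an element of `O`
    set eo : G := t⁻¹ * o⁻¹ * t * o with heo
    have hnst : n * s * n⁻¹ = t * eo := by rw [heo, ht, hkon]; group
    have heoO : eo ∈ O := by
      have hmem : eo ∈ oc E := by
        rw [heo]
        refine mul_mem ?_ ho
        simpa using hocE t⁻¹ (fun x hx => c.conj_W (N.inv_mem htN) (inv_mem htX) hx) _ (inv_mem ho)
      have hmN : eo ∈ N := by
        have : eo = t⁻¹ * (n * s * n⁻¹) := by rw [hnst, inv_mul_cancel_left]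
        rw [this]
        exact N.mul_mem (N.inv_mem htN) (N.mul_mem (N.mul_mem hn (D.T_le hsT)) (N.inv_mem hn))
      exact c.mem_O (n := ⟨eo, hmN⟩) (hφE ⟨eo, hmN⟩ (oc_le E hmem)) (odd_orderOf (odd_oc E) hmem)
    have hn4 : (c.φ ⟨n, hn⟩ : Perm (Fin 5)) 4 = 4 := (c.φ_X ⟨n, hn⟩).1 hnX
    have hcov : ∃ i : ℕ, i ≤ 2 ∧ ∃ σ : A5, σ * σ = 1 ∧ (σ : Perm (Fin 5)) 4 = 4 ∧
        c.φ ⟨n, hn⟩ = σ * c.φ D.w ^ i := by
      obtain ⟨σ, h1, h2, h | h | h⟩ := hcover _ hn4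
      · exact ⟨0, by omega, σ, h1, h2, by rw [pow_zero, mul_one, h]⟩
      · exact ⟨1, by omega, σ, h1, h2, by rw [pow_one, h]⟩
      · exact ⟨2, by omega, σ, h1, h2, by rw [pow_two, h]⟩
    obtain ⟨i, hi, σ, hσ, hσ4, hσe⟩ := hcov
    obtain ⟨t', ht', ht'K, ht'φ⟩ := D.lift σ hσ hσ4
    obtain ⟨a, ha, o', ho', hao⟩ := c.dec (⟨n, hn⟩ * (t' * D.w ^ i)⁻¹) (by
      rw [map_mul, map_inv, map_mul, map_pow, hσe, ht'φ, mul_inv_cancel])
    have hn' : n = a * o' * ((t' : G) * (D.w : G) ^ i) := by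
      have : n * ((t' : G) * (D.w : G) ^ i)⁻¹ = a * o' := by simpa using hao
      rw [← this, inv_mul_cancel_right]
    set si : G := (D.w : G) ^ i * s * ((D.w : G) ^ i)⁻¹ with hsi
    have hsiT : si ∈ (D.T : Subgroup G) := by
      have : ∀ j, (D.w : G) ^ j * s * ((D.w : G) ^ j)⁻¹ ∈ (D.T : Subgroup G) := by
        intro j
        induction j with
        | zero => simpa using hsT
        | succ j ih =>
          rw [pow_succ', show (D.w : G) * (D.w : G) ^ j * s * ((D.w : G) * (D.w : G) ^ j)⁻¹ =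
            D.w * ((D.w : G) ^ j * s * ((D.w : G) ^ j)⁻¹) * (D.w : G)⁻¹ by group]
          exact D.w_T _ ih
      exact this i
    set r : G := a * (t' : G) * si * (a * t')⁻¹ with hr
    have hat : a * (t' : G) ∈ (D.T : Subgroup G) := mul_mem (D.A_le ha) ht'
    have hrT : r ∈ (D.T : Subgroup G) := mul_mem (mul_mem hat hsiT) (inv_mem hat)
    have hrt : r = t := by
      have h1 : n * s * n⁻¹ * r⁻¹ ∈ O := by
        set q := (t' : G) * si * (t' : G)⁻¹ with hq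
        have hqT : q ∈ (D.T : Subgroup G) := mul_mem (mul_mem ht' hsiT) (inv_mem ht')
        have e : n * s * n⁻¹ * r⁻¹ = a * (o' * (q * o'⁻¹ * q⁻¹)) * a⁻¹ := by
          rw [hn', hr, hq, hsi]; group
        rw [e]
        exact c.O_norm a (c.le ha) _ (O.mul_mem ho' (c.O_norm q (D.T_le hqT) _ (O.inv_mem ho')))
      have h2 : t⁻¹ * r ∈ O := by
        have e : t⁻¹ * r = eo * (r⁻¹ * (n * s * n⁻¹ * r⁻¹)⁻¹ * r⁻¹⁻¹) := by
          rw [hnst]; group
        rw [e]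
        exact O.mul_mem heoO (c.O_norm r⁻¹ (N.inv_mem (D.T_le hrT)) _ (O.inv_mem h1))
      exact (inv_mul_eq_one.1 (eq_one_of_odd D.T.2 c.O_odd (mul_mem (inv_mem htT) hrT) h2)).symm
    have hnK : n ∈ K := by
      rw [show n = o⁻¹ * (k : G) by rw [hkon, inv_mul_cancel_left]]
      exact mul_mem (inv_mem (D.odd_K o (hEX (oc_le E ho)) (odd_orderOf (odd_oc E) ho))) k.2
    have hatK : a * (t' : G) ∈ K := by
      have ho'X : o' ∈ c.X := c.mem_X.2 (c.O_comm o' ho' _ (c.ι_mem e4))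
      have ho'K : o' ∈ K := D.odd_K o' ho'X (odd_orderOf c.O_odd ho')
      have h := mul_mem (mul_mem hnK (inv_mem (pow_mem D.w_K i)))
        (inv_mem (D.K_conj (t' : G)⁻¹ (inv_mem (D.K_le ht'K)) o' ho'K))
      convert h using 1
      rw [hn']; group
    let si' : ↥K := w ^ i * s * (w ^ i)⁻¹
    have hsi' : (si' : G) = si := by simp [si', hsi, w]
    have hfin : π k * π s * (π k)⁻¹ = π si' := by
      have hx : k * s * k⁻¹ = ⟨a * t', hatK⟩ * si' * (⟨a * t', hatK⟩ : ↥K)⁻¹ := by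
        refine Subtype.ext ?_
        simp only [Subgroup.coe_mul, Subgroup.coe_inv, hsi']
        rw [← ht, ← hrt, hr]
      have hsiP : π si' ∈ (P : Subgroup (↥K ⧸ zpowers z)) := hPmk _ (hsi' ▸ hsiT)
      rw [← map_inv, ← map_mul, ← map_mul, hx, map_mul, map_mul, map_inv,
        hPc _ (hPmk _ hat) _ hsiP, mul_inv_cancel_right]
    rw [hfin]
    obtain rfl | rfl | rfl : i = 0 ∨ i = 1 ∨ i = 2 := by omega
    · exact Or.inl (by rw [show si' = s by simp [si']])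
    · refine Or.inr (Or.inl ?_)
      rw [show si' = w * s * w⁻¹ by simp [si']]
      simp only [map_mul, map_inv]; rfl
    · refine Or.inr (Or.inr ?_)
      rw [show si' = w * (w * s * w⁻¹) * w⁻¹ by simp only [si', pow_two]; group]
      simp only [map_mul, map_inv]; rfl
  -- complements
  have comp : ∀ s : ↥N, ∀ hsT : (s : G) ∈ (D.T : Subgroup G), c.φ s ≠ 1 → ∀ hsK : (s : G) ∈ K,
      ∃ B : Subgroup (↥K ⧸ zpowers z), IsStronglyClosed B (P : Subgroup (↥K ⧸ zpowers z)) ∧ V ⊓ B = ⊥ ∧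
        π ⟨s, hsK⟩ ∈ B := by
    intro s hsT hs1 hsK
    set u := π ⟨s, hsK⟩ with hu
    have huP : u ∈ (P : Subgroup (↥K ⧸ zpowers z)) := hPmk _ hsT
    set b := π w * u * (π w)⁻¹ with hb
    set d := π w * b * (π w)⁻¹ with hd
    have hbP : b ∈ (P : Subgroup (↥K ⧸ zpowers z)) := hwP _ huP
    have hdP : d ∈ (P : Subgroup (↥K ⧸ zpowers z)) := hwP _ hbP
    have hnotV : u ∉ V := fun h => hs1 (c.φ_A s (c.W_le (hVmem _ h)))
    have hub : u * b = d := by
      rcases key u huP with h | ⟨s', hs'T, hs'1, hs'K, he⟩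
      · exact h
      · exfalso
        refine hnotV ?_
        obtain ⟨f, hf, hfe⟩ := hTK (s' : G) hs'T hs'1 hs'K
        rw [← he]
        exact ⟨⟨s', hs'K⟩, mem_subgroupOf.2 (hfe ▸ c.mem_W.2 hf), rfl⟩
    have hbu : b * u = d := by rw [hPc b hbP u huP, hub]
    let B := tripleSubgroup (hP2 u huP) (hP2 b hbP) (hP2 d hdP) hub hbu
    have hBP : B ≤ (P : Subgroup (↥K ⧸ zpowers z)) := by
      rintro x (rfl | rfl | rfl | rfl)
      exacts [one_mem _, huP, hbP, hdP]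
    have hwB : π w * d * (π w)⁻¹ = u := hw3' u huP
    refine ⟨B, ⟨hBP, fun x hx g hg => ?_⟩, ?_, Or.inr (Or.inl rfl)⟩
    · rcases hx with rfl | rfl | rfl | rfl
      · rw [mul_one, mul_inv_cancel]; exact one_mem _
      all_goals rcases hfusion _ (by assumption) g hg with h | h | h <;> rw [h]
      · exact Or.inr (Or.inl rfl)
      · exact Or.inr (Or.inr (Or.inl rfl))
      · exact Or.inr (Or.inr (Or.inr rfl))
      · exact Or.inr (Or.inr (Or.inl rfl))
      · exact Or.inr (Or.inr (Or.inr rfl))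
      · rw [← hd, hwB]; exact Or.inr (Or.inl rfl)
      · exact Or.inr (Or.inr (Or.inr rfl))
      · rw [hwB]; exact Or.inr (Or.inl rfl)
      · rw [hwB, ← hb]; exact Or.inr (Or.inr (Or.inl rfl))
    · rw [eq_bot_iff]
      rintro x ⟨hxV, hxB⟩
      have hinvw : ∀ y, y ∈ V → π w * y * (π w)⁻¹ ∈ V := by
        rintro _ ⟨v, hv, rfl⟩
        rw [← map_inv, ← map_mul, ← map_mul]
        exact ⟨_, c.conj_W D.w.2 (D.K_le D.w_K) hv, rfl⟩
      rcases hxB with rfl | rfl | rfl | rfl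
      · exact one_mem _
      · exact absurd hxV hnotV
      · exact absurd (by have := hinvw _ (hinvw _ hxV); rwa [← hd, hwB] at this) hnotV
      · exact absurd (by have := hinvw _ hxV; rwa [hwB] at this) hnotV
  obtain ⟨σ, hσ2, hσ4, hσ1⟩ := exists_v
  obtain ⟨s, hsT, hsK, hsφ⟩ := D.lift σ hσ2 hσ4
  have hclosed := closed_of_triple P hP2 hV (fun v hv => by
    obtain ⟨k, hk, rfl⟩ := hv
    have hkW : (k : G) ∈ c.W := hk
    have hkT := hWT hkW
    have hsk : c.φ (s * ⟨k, D.T_le hkT⟩) ≠ 1 := by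
      rw [map_mul, c.φ_A ⟨(k : G), _⟩ (c.W_le hkW), mul_one, hsφ]; exact hσ1
    obtain ⟨B, hBs, hVB, huB⟩ := comp s hsT (hsφ.symm ▸ hσ1) hsK
    obtain ⟨C, hCs, hVC, huC⟩ := comp (s * ⟨k, D.T_le hkT⟩) (mul_mem hsT hkT) hsk (mul_mem hsK k.2)
    refine ⟨B, C, hBs, hCs, hVB, hVC, ?_⟩
    have h := mul_mem (mem_sup_left (inv_mem huB) : _ ∈ B ⊔ C) (mem_sup_right huC)
    rw [← map_inv, ← map_mul] at h
    convert h using 2
    exact Subtype.ext (by simp))
  -- conjugates of `W` under `K`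
  have hocK : oc K ≤ oc c.X := oc_mono D.K_le D.K_conj
  have hKW : ∀ k : ↥K, ∀ x ∈ c.W, ∃ x' ∈ c.W, ∃ o ∈ oc c.X, (k : G) * x * (k : G)⁻¹ = x' * o := by
    intro k x hx
    obtain ⟨v', hv', o, ho, he⟩ := hclosed (π k) (π ⟨x, D.W_K hx⟩) ⟨_, hx, rfl⟩
    obtain ⟨v, hv, rfl⟩ := hv'
    have hL : π (v⁻¹ * (k * ⟨x, D.W_K hx⟩ * k⁻¹)) ∈ pPrimeCore 2 (↥K ⧸ zpowers z) := by
      rw [map_mul, map_inv, map_mul, map_mul, map_inv, he, inv_mul_cancel_left]; exact ho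
    haveI : (pPrimeCore 2 (↥K ⧸ zpowers z)).Normal := Subgroup.sSup_normal _ (fun _ h => h.1)
    obtain ⟨o', ho', h⟩ := central_preimage (X := K) (c := c.ι e4) (c.sq e4) hc0K
      (fun x hx => c.mem_X.1 (D.K_le hx)) π hπ1 (pPrimeCore 2 (↥K ⧸ zpowers z))
      (Nat.coprime_two_right.1 (Cores.pPrimeCore_coprime 2)) _ hL
    simp only [Subgroup.coe_mul, Subgroup.coe_inv] at h
    rcases h with h | h
    · exact ⟨v, hv, o', hocK ho', inv_mul_eq_iff_eq_mul.1 h⟩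
    · exact ⟨(v : G) * c.ι e4, mul_mem hv hc0W, o', hocK ho', by
        rw [inv_mul_eq_iff_eq_mul] at h; rw [h, mul_assoc]⟩
  have hallW : ∀ g ∈ c.X, ∀ x ∈ c.W, ∃ x' ∈ c.W, ∃ o ∈ oc c.X, g * x * g⁻¹ = x' * o := by
    intro g hg x hx
    rcases D.K_or g hg with h | h
    · exact hKW ⟨g, h⟩ x hx
    · obtain ⟨x', hx', o, ho, he⟩ := hKW ⟨_, h⟩ x hx
      refine ⟨x', hx', o, ho, ?_⟩
      rw [← he]
      show g * x * g⁻¹ = g * c.ι q04 * x * (g * c.ι q04)⁻¹
      rw [show g * c.ι q04 * x * (g * c.ι q04)⁻¹ = g * (c.ι q04 * x * (c.ι q04)⁻¹) * g⁻¹ by group,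
        c.A_comm (c.ι_mem q04) (c.W_le hx), mul_inv_cancel_right]
  have hsplit : ∀ g ∈ c.X, ∃ o ∈ oc c.X, ∃ o₁ ∈ oc E, ∃ n ∈ N, n ∈ c.X ∧ g = o * o₁ * n := by
    intro g hg
    obtain ⟨o, ho, hn⟩ := exists_normalize (P := c.W) (O := oc c.X) (g := g)
      (c.two_A.to_le c.W_le) (odd_oc c.X) (fun p hp o ho => oc_conj_self (hWX hp) ho) (hallW g hg)
    obtain ⟨o₁, ho₁, n, hn', hnX, he⟩ := hNW (o * g) (mul_mem (oc_le _ ho) hg) hn
    exact ⟨o⁻¹, inv_mem ho, o₁, ho₁, n, hn', hnX, by rw [mul_assoc, ← he, inv_mul_cancel_left]⟩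
  -- the odd subgroup
  have hEO : oc E ≤ oc c.X := by
    have hEXo : oc E ≤ c.X := (oc_le E).trans hEX
    have hodd : Odd (Nat.card ↥(oc E ⊔ oc c.X)) :=
      odd_sup (odd_oc E) (odd_oc c.X) fun a ha b hb => oc_conj_self (hEXo ha) hb
    refine le_sup_left.trans (le_oc (sup_le hEXo (oc_le c.X)) hodd fun g hg l hl => ?_)
    obtain ⟨o, ho, o₁, ho₁, n, hn, hnX, rfl⟩ := hsplit g hg
    have hgen : ∀ y ∈ oc E ⊔ oc c.X, n * y * n⁻¹ ∈ oc E ⊔ oc c.X := by
      intro y hy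
      have hle : oc E ⊔ oc c.X ≤ (oc E ⊔ oc c.X).comap (MulAut.conj n).toMonoidHom :=
        sup_le (fun e he => mem_sup_left (hocE n (fun x hx => c.conj_W hn hnX hx) e he))
          (fun e he => mem_sup_right (oc_conj_self hnX he))
      exact hle hy
    have hoo : o * o₁ ∈ oc E ⊔ oc c.X := mul_mem (mem_sup_right ho) (mem_sup_left ho₁)
    rw [show o * o₁ * n * l * (o * o₁ * n)⁻¹ = o * o₁ * (n * l * n⁻¹) * (o * o₁)⁻¹ by group]
    exact mul_mem (mul_mem hoo (hgen l hl)) (inv_mem hoo)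
  intro g hg
  obtain ⟨o, ho, o₁, ho₁, n, hn, hnX, he⟩ := hsplit g hg
  exact ⟨o * o₁, mul_mem ho (hEO ho₁), n, hn, hnX, he⟩

end Cfsg.Agent.Lib.Inv59.ASixteen
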